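import Groth.Agent.FrobW.Witt

/-!
Constructing a flat lifting over `W₂(k)` from a functional on the relations.
-/

namespace Groth.Agent.FrobW.LiftData

universe u v

variable {p : ℕ} [Fact p.Prime] {k : Type u} [Field k] [CharP k p] [PerfectRing k p]

/-- If `λ` is a `P`-linear functional on `ker q` sending `p x` to `q x`, then the quotient of `P` by
the kernel of `λ` is a lifting of `A` over `W₂(k)`. -/
theorem exists_lift_of_functional (A : Type v) [CommRing A] [Algebra k A] (P : Type v) [CommRing P]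
    (ι : FrobAlg.W2 p k →+* P) (q : P →+* A) (hq : Function.Surjective q)
    (hcomm : q.comp ι = (algebraMap k A).comp (FrobAlg.res p k))
    (l : RingHom.ker q → A) (hadd : ∀ a b, l (a + b) = l a + l b)
    (hmul : ∀ (x : P) a, l (x • a) = q x * l a)
    (hp : ∀ (x : P) (hx : (p : P) * x ∈ RingHom.ker q), l ⟨_, hx⟩ = q x) :
    ∃ J : Ideal P, (∀ x ∈ J, ∃ hx : x ∈ RingHom.ker q, l ⟨x, hx⟩ = 0) ∧
      ∃ π : P ⧸ J →+* A, π.comp (Ideal.Quotient.mk J) = q ∧
        FrobAlg.IsLift p k A (P ⧸ J) ((Ideal.Quotient.mk J).comp ι) π := by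
  let L : RingHom.ker q →+ A := AddMonoidHom.mk' l hadd
  let J : Ideal P :=
    { carrier := {x | ∃ hx : x ∈ RingHom.ker q, L ⟨x, hx⟩ = 0}
      add_mem' := fun {a b} ⟨ha, ha'⟩ ⟨hb, hb'⟩ => ⟨add_mem ha hb, by
        have := map_add L ⟨a, ha⟩ ⟨b, hb⟩
        rw [ha', hb', add_zero] at this
        exact this⟩
      zero_mem' := ⟨zero_mem _, map_zero L⟩
      smul_mem' := fun c a ⟨ha, ha'⟩ => ⟨Ideal.mul_mem_left _ c ha, by
        change l (c • ⟨a, ha⟩) = 0
        rw [hmul]
        change q c * L ⟨a, ha⟩ = 0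
        rw [ha', mul_zero]⟩ }
  have hpP : ∀ x : P, q ((p : P) * x) = 0 := fun x => by
    rw [map_mul, map_natCast, ← map_natCast (algebraMap k A), CharP.cast_eq_zero, map_zero, zero_mul]
  refine ⟨J, fun x hx => hx, Ideal.Quotient.lift J q (fun x hx => hx.1), RingHom.ext fun x => rfl,
    Witt.isLift_of_natCast (fun a => ?_) (RingHom.ext fun w => RingHom.congr_fun hcomm w) (fun b hb => ?_) fun b hb => ?_⟩
  · obtain ⟨x, rfl⟩ := hq a
    exact ⟨Ideal.Quotient.mk J x, rfl⟩
  · obtain ⟨x, rfl⟩ := Ideal.Quotient.mk_surjective b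
    obtain ⟨z, hz⟩ := hq (L ⟨x, hb⟩)
    refine ⟨Ideal.Quotient.mk J z, ?_⟩
    rw [← map_natCast (Ideal.Quotient.mk J), ← map_mul, Ideal.Quotient.eq]
    refine ⟨sub_mem (show x ∈ RingHom.ker q from hb) (hpP z), ?_⟩
    have := map_sub L ⟨x, hb⟩ ⟨(p : P) * z, hpP z⟩
    refine this.trans ?_
    rw [← hz]
    exact sub_eq_zero.2 (hp z (hpP z)).symm
  · obtain ⟨x, rfl⟩ := Ideal.Quotient.mk_surjective b
    rw [← map_natCast (Ideal.Quotient.mk J), ← map_mul, Ideal.Quotient.eq_zero_iff_mem] at hb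
    obtain ⟨hx, hx0⟩ := hb
    exact (hp x hx).symm.trans hx0

/-- If `λ` is a `P`-linear functional on `ker q` sending `p x` to `q x`, then `A` lifts over `W₂(k)`. -/
theorem isW2Liftable_of_functional (A : Type v) [CommRing A] [Algebra k A] (P : Type v) [CommRing P]
    (ι : FrobAlg.W2 p k →+* P) (q : P →+* A) (hq : Function.Surjective q)
    (hcomm : q.comp ι = (algebraMap k A).comp (FrobAlg.res p k))
    (l : RingHom.ker q → A) (hadd : ∀ a b, l (a + b) = l a + l b)
    (hmul : ∀ (x : P) a, l (x • a) = q x * l a)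
    (hp : ∀ (x : P) (hx : (p : P) * x ∈ RingHom.ker q), l ⟨_, hx⟩ = q x) :
    FrobAlg.IsW2Liftable p k A := by
  obtain ⟨J, -, π, -, h⟩ := exists_lift_of_functional A P ι q hq hcomm l hadd hmul hp
  exact ⟨P ⧸ J, inferInstance, _, π, h⟩

/-- The divided difference: given a ring map `ψ` into a flat lifting compatible with `q`, every
element of `ker q` is sent to a multiple of `p`, whence a `P`-linear map to the lifted algebra. -/
theorem exists_divided {A B P B' : Type v} [CommRing A] [CommRing B] [CommRing P] [CommRing B']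
    [Algebra k B] {ι' : FrobAlg.W2 p k →+* B'} {π : B' →+* B} (hB : FrobAlg.IsLift p k B B' ι' π)
    (q : P →+* A) (f : A →+* B) (ψ : P →+* B') (hψ : π.comp ψ = f.comp q) :
    ∃ h : RingHom.ker q → B, (∀ a b, h (a + b) = h a + h b) ∧
      (∀ (x : P) a, h (x • a) = f (q x) * h a) ∧
      ∀ (x : P) (hx : (p : P) * x ∈ RingHom.ker q), h ⟨_, hx⟩ = f (q x) := by
  have hex : ∀ a : RingHom.ker q, ∃ c, ψ a = (p : B') * c := fun a =>
    Witt.lift_exists_eq_natCast_mul hB (by
      rw [← RingHom.comp_apply, hψ, RingHom.comp_apply, RingHom.mem_ker.1 a.2, map_zero])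
  choose c hc using hex
  have huniq : ∀ (a : RingHom.ker q) (d : B'), ψ a = (p : B') * d → π (c a) = π d := fun a d hd => by
    rw [← sub_eq_zero, ← map_sub, ← Witt.lift_natCast_mul_eq_zero hB, mul_sub, ← hc, ← hd, sub_self]
  refine ⟨fun a => π (c a), fun a b => ?_, fun x a => ?_, fun x hx => ?_⟩
  · dsimp only
    rw [huniq (a + b) (c a + c b) (by rw [Submodule.coe_add, map_add, hc, hc, mul_add]), map_add]
  · dsimp only
    rw [huniq (x • a) (ψ x * c a) (by rw [SetLike.val_smul, smul_eq_mul, map_mul, hc, mul_left_comm]), map_mul,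
      ← RingHom.comp_apply π, hψ, RingHom.comp_apply]
  · dsimp only
    rw [huniq ⟨_, hx⟩ (ψ x) (by simp), ← RingHom.comp_apply π, hψ, RingHom.comp_apply]

end Groth.Agent.FrobW.LiftData
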