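import Mathlib.FieldTheory.IsPerfectClosure
import Mathlib.FieldTheory.PerfectClosure
import Mathlib.RingTheory.Flat.EquationalCriterion
import Mathlib.RingTheory.RingHom.FaithfullyFlat

/-!
Helper lemmas about `p`-radical maps and flatness criteria.
-/

namespace Groth.Agent.FrobW.Perfect

variable {A A' : Type*} [CommRing A] [CommRing A'] (i : A →+* A') (p : ℕ)

theorem exists_pow_mem_range_of_finite [IsPRadical i p] {ι : Type*} [Finite ι] (x : ι → A') :
    ∃ N, ∀ n, N ≤ n → ∀ k, ∃ a, i a = x k ^ p ^ n := by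
  cases nonempty_fintype ι
  choose N a ha using fun k => IsPRadical.pow_mem i p (x k)
  refine ⟨Finset.univ.sup N, fun n hn k => ?_⟩
  obtain ⟨m, rfl⟩ := Nat.exists_eq_add_of_le ((Finset.le_sup (Finset.mem_univ k)).trans hn)
  exact ⟨a k ^ p ^ m, by rw [map_pow, ha, ← pow_mul, ← pow_add]⟩

theorem exists_pow_eq_zero_of_ker [IsPRadical i p] {a : A} (h : i a = 0) : ∃ n, a ^ p ^ n = 0 :=
  mem_pNilradical.1 (IsPRadical.ker_le i p (RingHom.mem_ker.2 h))

variable {S : Type*} [CommRing S]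

/-- Equational criterion for flatness of a ring map. -/
theorem flat_of_relations (f : A →+* S)
    (h : ∀ {l : ℕ} (r : Fin l → A) (x : Fin l → S), ∑ k, f (r k) * x k = 0 →
      ∃ (n : ℕ) (a : Fin l → Fin n → A) (y : Fin n → S),
        (∀ k, x k = ∑ j, f (a k j) * y j) ∧ ∀ j, ∑ k, r k * a k j = 0) : f.Flat := by
  letI := f.toAlgebra
  exact Module.Flat.of_forall_isTrivialRelation fun hx => h _ _ hx

theorem relations_of_flat {f : A →+* S} (hf : f.Flat) {l : ℕ} (r : Fin l → A) (x : Fin l → S)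
    (hx : ∑ k, f (r k) * x k = 0) :
    ∃ (n : ℕ) (a : Fin l → Fin n → A) (y : Fin n → S),
      (∀ k, x k = ∑ j, f (a k j) * y j) ∧ ∀ j, ∑ k, r k * a k j = 0 := by
  letI := f.toAlgebra
  haveI : Module.Flat A S := hf
  exact Module.Flat.isTrivialRelation_of_sum_smul_eq_zero (f := r) (x := x) hx

/-- A flat ring map `f` is faithfully flat as soon as no maximal ideal generates the unit ideal. -/
theorem faithfullyFlat_of_map_ne_top {f : A →+* S} (hf : f.Flat)
    (h : ∀ (m : Ideal A), m.IsMaximal → m.map f ≠ ⊤) : f.FaithfullyFlat := by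
  letI := f.toAlgebra
  haveI : Module.Flat A S := hf
  refine { submodule_ne_top := fun m hm htop => h m hm ?_ }
  rw [← Submodule.restrictScalars_inj A, Submodule.restrictScalars_top]
  exact (Ideal.smul_top_eq_map (R := A) (S := S) m).symm.trans htop

theorem map_ne_top_of_faithfullyFlat {f : A →+* S} (hf : f.FaithfullyFlat) {I : Ideal A} (hI : I ≠ ⊤) :
    I.map f ≠ ⊤ := by
  obtain ⟨m, hm, hIm⟩ := Ideal.exists_le_maximal I hI
  obtain ⟨q, hq⟩ := (RingHom.FaithfullyFlat.iff_flat_and_comap_surjective.1 hf).2 ⟨m, hm.isPrime⟩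
  refine fun htop => q.isPrime.ne_top (top_unique (htop ▸ Ideal.map_le_iff_le_comap.2 ?_))
  intro a ha
  have := congrArg PrimeSpectrum.asIdeal hq
  rw [PrimeSpectrum.comap_asIdeal] at this
  rw [this]
  exact hIm ha

theorem exists_eq_one_of_map_eq_top {f : A →+* S} {I : Ideal A} (h : I.map f = ⊤) :
    ∃ (n : ℕ) (a : Fin n → A) (y : Fin n → S), (∀ k, a k ∈ I) ∧ ∑ k, f (a k) * y k = 1 := by
  have h1 : (1 : S) ∈ Ideal.span (f '' I) := by
    change (1 : S) ∈ I.map f
    rw [h]; trivial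
  obtain ⟨n, c, g, hsum⟩ := Submodule.mem_span_set'.1 h1
  choose a ha hag using fun k => (g k).2
  exact ⟨n, a, c, ha, by simpa [hag, mul_comm] using hsum⟩

end Groth.Agent.FrobW.Perfect
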