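import Groth.Prelude.Def_FrobAlg
import Groth.Agent.FrobW.Perfect
import Mathlib.RingTheory.Flat.FaithfullyFlat.Algebra
import Mathlib.LinearAlgebra.TensorProduct.Tower

/-!
The perfect closure of a ring as a union of its Frobenius twists, when Frobenius is projective.
-/

universe u v

namespace Groth.Agent.FrobW.PerfTower

open TensorProduct

/-- `R` as an algebra over itself through the `n`-th iterate of Frobenius. -/
@[nolint unusedArguments]
def Rt (_p _n : ℕ) (R : Type u) : Type u := R

variable (p : ℕ) [Fact p.Prime] (R : Type u) [CommRing R] [CharP R p]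

instance (n : ℕ) : CommRing (Rt p n R) := inferInstanceAs (CommRing R)

/-- The identity of underlying rings. -/
def toRt (n : ℕ) : R ≃+* Rt p n R := RingEquiv.refl R

noncomputable instance (n : ℕ) : Algebra R (Rt p n R) :=
  ((toRt p R n : R →+* Rt p n R).comp (iterateFrobenius R p n)).toAlgebra

theorem algebraMap_rt (n : ℕ) (r : R) : algebraMap R (Rt p n R) r = toRt p R n (r ^ p ^ n) := rfl

omit [CharP R p] [Fact p.Prime] in
theorem projective_trans {S M : Type u} [CommRing S] [Algebra R S] [AddCommGroup M] [Module S M] [Module R M]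
    [IsScalarTower R S M] [Module.Projective R S] [Module.Projective S M] : Module.Projective R M := by
  classical
  obtain ⟨s, hs⟩ := (Module.projective_def' (R := S) (P := M)).1 inferInstance
  haveI : Module.Projective R (M →₀ S) := Module.Projective.of_equiv' (finsuppLequivDFinsupp (ι := M) R (M := S)).symm
  exact Module.Projective.of_split (s.restrictScalars R) ((Finsupp.linearCombination S id).restrictScalars R)
    (LinearMap.ext fun m => LinearMap.congr_fun hs m)

instance projective [Module.Projective R (FrobAlg.Twist p R)] (n : ℕ) : Module.Projective R (Rt p n R) := by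
  induction n with
  | zero =>
    exact Module.Projective.of_equiv' (M := R) { toRt p R 0 with
      map_smul' := fun r x => by
        change toRt p R 0 (r * x) = algebraMap R (Rt p 0 R) r * toRt p R 0 x
        rw [map_mul, algebraMap_rt, pow_zero, pow_one] }
  | succ n ih =>
    letI : Algebra (FrobAlg.Twist p R) (Rt p (n + 1) R) :=
      (((toRt p R (n + 1) : R →+* Rt p (n + 1) R).comp (iterateFrobenius R p n)).comp
        (FrobAlg.toTwist p R).symm.toRingHom).toAlgebra
    have hmap : ∀ r : R, algebraMap (FrobAlg.Twist p R) (Rt p (n + 1) R) (FrobAlg.toTwist p R r) =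
        toRt p R (n + 1) (r ^ p ^ n) := fun r => rfl
    haveI : IsScalarTower R (FrobAlg.Twist p R) (Rt p (n + 1) R) := IsScalarTower.of_algebraMap_eq fun r => by
      rw [FrobAlg.algebraMap_twist, hmap, algebraMap_rt, ← pow_mul, ← pow_succ']
    haveI := RingHomInvPair.of_ringEquiv (FrobAlg.toTwist p R)
    haveI := RingHomInvPair.symm (FrobAlg.toTwist p R : R →+* FrobAlg.Twist p R) ((FrobAlg.toTwist p R).symm : FrobAlg.Twist p R →+* R)
    haveI : Module.Projective (FrobAlg.Twist p R) (Rt p (n + 1) R) :=
      Module.Projective.of_equiv (R := R) (S := FrobAlg.Twist p R) (σ := (FrobAlg.toTwist p R : R →+* FrobAlg.Twist p R))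
        (σ' := ((FrobAlg.toTwist p R).symm : FrobAlg.Twist p R →+* R))
        { toFun := fun x => toRt p R (n + 1) ((toRt p R n).symm x)
          invFun := fun x => toRt p R n ((toRt p R (n + 1)).symm x)
          left_inv := fun x => by simp
          right_inv := fun x => by simp
          map_add' := fun x y => by simp
          map_smul' := fun r x => by
            rw [Algebra.smul_def, Algebra.smul_def, map_mul, map_mul]
            rfl }
    exact projective_trans R (S := FrobAlg.Twist p R) (M := Rt p (n + 1) R)

/-- The embedding of the `n`-th twist into the perfect closure. -/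
noncomputable def j (n : ℕ) : Rt p n R →+* PerfectClosure R p :=
  ((iterateFrobeniusEquiv (PerfectClosure R p) p n).symm.toRingHom.comp (PerfectClosure.of R p)).comp
    (toRt p R n).symm.toRingHom

theorem j_pow (n : ℕ) (x : R) : j p R n (toRt p R n x) ^ p ^ n = PerfectClosure.of R p x := by
  rw [← iterateFrobenius_def, j, RingHom.comp_apply, RingHom.comp_apply]
  exact (iterateFrobeniusEquiv (PerfectClosure R p) p n).apply_symm_apply _

theorem j_eq (n : ℕ) (x : R) : j p R n (toRt p R n x) = PerfectClosure.mk R p (n, x) := by
  apply iterateFrobenius_inj (PerfectClosure R p) p n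
  rw [iterateFrobenius_def, j_pow, coe_iterateFrobenius, PerfectClosure.iterate_frobenius_mk]

theorem j_algebraMap (n : ℕ) (r : R) : j p R n (algebraMap R (Rt p n R) r) = PerfectClosure.of R p r := by
  apply iterateFrobenius_inj (PerfectClosure R p) p n
  rw [iterateFrobenius_def, iterateFrobenius_def, algebraMap_rt, j_pow, map_pow]

section

variable [Module.Projective R (FrobAlg.Twist p R)]

theorem flat_iterateFrobenius (N : ℕ) : (iterateFrobenius R p N).Flat := by
  have h : (algebraMap R (Rt p N R)).Flat := RingHom.flat_algebraMap_iff.2 inferInstance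
  have : iterateFrobenius R p N = (toRt p R N).symm.toRingHom.comp (algebraMap R (Rt p N R)) :=
    RingHom.ext fun r => ((toRt p R N).symm_apply_apply _).symm
  rw [this]
  exact h.comp (RingHom.Flat.of_bijective (toRt p R N).symm.bijective)

theorem faithfullyFlat_frobenius : (frobenius R p).FaithfullyFlat := by
  rw [← iterateFrobenius_one]
  refine Groth.Agent.FrobW.Perfect.faithfullyFlat_of_map_ne_top (flat_iterateFrobenius p R 1) fun m hm h => hm.ne_top ?_
  rw [eq_top_iff, ← h, Ideal.map_le_iff_le_comap]
  intro x hx
  rw [Ideal.mem_comap, iterateFrobenius_def]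
  exact Ideal.pow_mem_of_mem _ hx _ (pow_pos (Fact.out : p.Prime).pos _)

theorem of_injective : Function.Injective (PerfectClosure.of R p) := by
  rw [injective_iff_map_eq_zero]
  intro x hx
  obtain ⟨n, hn⟩ := Groth.Agent.FrobW.Perfect.exists_pow_eq_zero_of_ker (PerfectClosure.of R p) p hx
  exact (faithfullyFlat_frobenius p R).injective.iterate n
    (by rw [← coe_iterateFrobenius, iterateFrobenius_def, hn, map_zero])

theorem flat_of : (PerfectClosure.of R p).Flat := by
  refine Groth.Agent.FrobW.Perfect.flat_of_relations _ fun {l} r x hx => ?_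
  obtain ⟨N, hN⟩ := Groth.Agent.FrobW.Perfect.exists_pow_mem_range_of_finite (PerfectClosure.of R p) p x
  choose y hy using hN N le_rfl
  have h0 : ∑ k, iterateFrobenius R p N (r k) * y k = 0 := by
    apply of_injective p R
    have := congrArg (iterateFrobenius (PerfectClosure R p) p N) hx
    simpa [map_sum, iterateFrobenius_def, mul_pow, hy, zero_pow (pow_ne_zero N (Fact.out : p.Prime).ne_zero)] using this
  obtain ⟨n, a, z, hyz, haz⟩ := Groth.Agent.FrobW.Perfect.relations_of_flat (flat_iterateFrobenius p R N) r y h0
  refine ⟨n, a, fun i => j p R N (toRt p R N (z i)), fun k => ?_, haz⟩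
  apply iterateFrobenius_inj (PerfectClosure R p) p N
  rw [iterateFrobenius_def, ← hy, hyz, map_sum, map_sum]
  refine Finset.sum_congr rfl fun i _ => ?_
  rw [map_mul, map_mul, iterateFrobenius_def, iterateFrobenius_def, iterateFrobenius_def, j_pow, map_pow]

theorem faithfullyFlat_of : (PerfectClosure.of R p).FaithfullyFlat := by
  refine Groth.Agent.FrobW.Perfect.faithfullyFlat_of_map_ne_top (flat_of p R) fun m hm h => hm.ne_top ?_
  obtain ⟨n, a, y, ha, hsum⟩ := Groth.Agent.FrobW.Perfect.exists_eq_one_of_map_eq_top h
  obtain ⟨N, hN⟩ := Groth.Agent.FrobW.Perfect.exists_pow_mem_range_of_finite (PerfectClosure.of R p) p y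
  choose z hz using hN N le_rfl
  have h0 : ∑ k, a k ^ p ^ N * z k = 1 := by
    apply of_injective p R
    have := congrArg (iterateFrobenius (PerfectClosure R p) p N) hsum
    simpa [map_sum, iterateFrobenius_def, mul_pow, hz] using this
  rw [Ideal.eq_top_iff_one, ← h0]
  exact Ideal.sum_mem _ fun k _ => Ideal.mul_mem_right _ _ (Ideal.pow_mem_of_mem _ (ha k) _ (pow_pos (Fact.out : p.Prime).pos _))

theorem faithfullyFlat_j (n : ℕ) : (j p R n).FaithfullyFlat :=
  RingHom.FaithfullyFlat.stableUnderComposition _ _ (RingHom.FaithfullyFlat.of_bijective (toRt p R n).symm.bijective)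
    (RingHom.FaithfullyFlat.stableUnderComposition _ _ (faithfullyFlat_of p R)
      (RingHom.FaithfullyFlat.of_bijective (iterateFrobeniusEquiv (PerfectClosure R p) p n).symm.bijective))

end

section

variable [Algebra R (PerfectClosure R p)] (h : algebraMap R (PerfectClosure R p) = PerfectClosure.of R p)

/-- `j` as an algebra map. -/
noncomputable def jAlg (n : ℕ) : Rt p n R →ₐ[R] PerfectClosure R p :=
  { j p R n with commutes' := fun r => by rw [h]; exact j_algebraMap p R n r }

variable (M : Type v) [AddCommGroup M] [Module R M]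

theorem rTensor_injective [Module.Projective R (FrobAlg.Twist p R)] (n : ℕ) :
    Function.Injective (LinearMap.rTensor M (jAlg p R h n).toLinearMap) := by
  letI : Algebra (Rt p n R) (PerfectClosure R p) := (j p R n).toAlgebra
  haveI : IsScalarTower R (Rt p n R) (PerfectClosure R p) :=
    IsScalarTower.of_algebraMap_eq fun r => ((jAlg p R h n).commutes r).symm
  haveI : Module.FaithfullyFlat (Rt p n R) (PerfectClosure R p) := faithfullyFlat_j p R n
  let e := TensorProduct.AlgebraTensorModule.cancelBaseChange R (Rt p n R) (Rt p n R) (PerfectClosure R p) M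
  have : ∀ t, LinearMap.rTensor M (jAlg p R h n).toLinearMap t = e ((1 : PerfectClosure R p) ⊗ₜ[Rt p n R] t) := by
    intro t
    induction t using TensorProduct.induction_on with
    | zero => simp
    | tmul y m =>
      simp only [e, LinearMap.rTensor_tmul, TensorProduct.AlgebraTensorModule.cancelBaseChange_tmul]
      rw [Algebra.smul_def, mul_one]
      rfl
    | add x y hx hy => rw [map_add, TensorProduct.tmul_add, map_add, hx, hy]
  intro s t hst
  rw [this, this] at hst
  exact Module.FaithfullyFlat.tensorProduct_mk_injective (A := Rt p n R) (B := PerfectClosure R p) _ (e.injective hst)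

theorem exists_rTensor_eq (t : PerfectClosure R p ⊗[R] M) :
    ∃ (n : ℕ) (s : Rt p n R ⊗[R] M), LinearMap.rTensor M (jAlg p R h n).toLinearMap s = t := by
  have up : ∀ (n m : ℕ) (s : Rt p n R ⊗[R] M), ∃ s' : Rt p (n + m) R ⊗[R] M,
      LinearMap.rTensor M (jAlg p R h (n + m)).toLinearMap s' = LinearMap.rTensor M (jAlg p R h n).toLinearMap s := by
    intro n m s
    induction s using TensorProduct.induction_on with
    | zero => exact ⟨0, by simp⟩
    | tmul y x =>
      refine ⟨toRt p R (n + m) ((toRt p R n).symm y ^ p ^ m) ⊗ₜ[R] x, ?_⟩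
      rw [LinearMap.rTensor_tmul, LinearMap.rTensor_tmul]
      congr 1
      change j p R (n + m) (toRt p R (n + m) ((toRt p R n).symm y ^ p ^ m)) = j p R n y
      apply iterateFrobenius_inj (PerfectClosure R p) p (n + m)
      rw [iterateFrobenius_def, iterateFrobenius_def, j_pow, map_pow, pow_add, pow_mul _ (p ^ n),
        ← j_pow p R n ((toRt p R n).symm y), RingEquiv.apply_symm_apply]
    | add a b ha hb =>
      obtain ⟨a', ha⟩ := ha
      obtain ⟨b', hb⟩ := hb
      exact ⟨a' + b', by rw [map_add, map_add, ha, hb]⟩
  induction t using TensorProduct.induction_on with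
  | zero => exact ⟨0, 0, map_zero _⟩
  | tmul y x =>
    obtain ⟨⟨n, a⟩, rfl⟩ := PerfectClosure.mk_surjective R p y
    refine ⟨n, toRt p R n a ⊗ₜ[R] x, ?_⟩
    rw [LinearMap.rTensor_tmul]
    congr 1
    exact j_eq p R n a
  | add a b ha hb =>
    obtain ⟨m, s, rfl⟩ := ha
    obtain ⟨n, t, rfl⟩ := hb
    obtain ⟨s', hs⟩ := up m n s
    obtain ⟨t', ht⟩ := up n m t
    have e : n + m = m + n := add_comm n m
    rw [← hs, ← ht]
    clear hs ht
    revert t'
    rw [e]
    intro t'
    exact ⟨m + n, s' + t', map_add _ _ _⟩

end

end Groth.Agent.FrobW.PerfTower
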