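import Mathlib.LinearAlgebra.DirectSum.Finsupp
import Mathlib.Algebra.Module.Projective
import Mathlib.RingTheory.Finiteness.Projective

/-!
Tensoring a projective module with a submodule of a product.
-/

namespace Groth.Agent.FrobW.ProjPi

open TensorProduct

variable {R : Type*} [CommRing R] {N : Type*} [AddCommGroup N] [Module R N]
  {ι : Type*} {P : ι → Type*} [∀ i, AddCommGroup (P i)] [∀ i, Module R (P i)]
  (φ : ∀ i, N →ₗ[R] P i)

theorem finsuppScalarLeft_lTensor {J : Type*} [DecidableEq J] (x : (J →₀ R) ⊗[R] N) (i : ι) (j : J) :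
    finsuppScalarLeft R (P i) J (LinearMap.lTensor _ (φ i) x) j =
      φ i (finsuppScalarLeft R N J x j) := by
  induction x using TensorProduct.induction_on with
  | zero => simp
  | tmul a b => simp [finsuppScalarLeft_apply_tmul_apply]
  | add x y hx hy => simp only [map_add, Finsupp.add_apply, hx, hy]

variable {M : Type*} [AddCommGroup M] [Module R M]

theorem injective_pi_lTensor [Module.Projective R M] (hφ : Function.Injective (LinearMap.pi φ)) :
    Function.Injective (LinearMap.pi fun i => LinearMap.lTensor M (φ i)) := by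
  classical
  obtain ⟨s, hs⟩ := (Module.projective_def' (R := R) (P := M)).1 inferInstance
  rw [injective_iff_map_eq_zero]
  intro x hx
  have h : LinearMap.rTensor N s x = 0 := by
    apply (finsuppScalarLeft R N M).injective
    ext j
    rw [map_zero, Finsupp.zero_apply]
    apply hφ
    rw [map_zero]
    ext i
    rw [LinearMap.pi_apply, Pi.zero_apply, ← finsuppScalarLeft_lTensor φ, ← LinearMap.comp_apply (LinearMap.lTensor _ (φ i)),
      LinearMap.lTensor_comp_rTensor, ← LinearMap.rTensor_comp_lTensor, LinearMap.comp_apply]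
    have := congrFun hx i
    simp only [LinearMap.pi_apply, Pi.zero_apply] at this
    simp [this]
  have := congrArg (LinearMap.rTensor N (Finsupp.linearCombination R id)) h
  rwa [← LinearMap.comp_apply, ← LinearMap.rTensor_comp, hs, LinearMap.rTensor_id, LinearMap.id_apply, map_zero] at this

/-- For a finite projective module `M`, a family is in the image of `M ⊗ N` as soon as its
coordinates satisfy any condition characterizing the image of `N`, the condition being expressed
by equations `ψ k (y (a k)) = y (b k)`. -/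
theorem mem_range_pi_lTensor [Module.Finite R M] [Module.Projective R M]
    {κ : Type*} (a b : κ → ι) (ψ : ∀ k, P (a k) →ₗ[R] P (b k))
    (hφ : ∀ z : ∀ i, P i, (∀ k, ψ k (z (a k)) = z (b k)) → z ∈ LinearMap.range (LinearMap.pi φ))
    (y : ∀ i, M ⊗[R] P i) (hy : ∀ k, LinearMap.lTensor M (ψ k) (y (a k)) = y (b k)) :
    y ∈ LinearMap.range (LinearMap.pi fun i => LinearMap.lTensor M (φ i)) := by
  classical
  obtain ⟨n, f, s, -, -, hfs⟩ := Module.Finite.exists_comp_eq_id_of_projective R M
  let e := Finsupp.linearEquivFunOnFinite R R (Fin n)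
  let s' : M →ₗ[R] (Fin n →₀ R) := e.symm.toLinearMap ∘ₗ s
  let f' : (Fin n →₀ R) →ₗ[R] M := f ∘ₗ e.toLinearMap
  have hfs' : f' ∘ₗ s' = LinearMap.id := by
    ext x
    simpa [f', s'] using LinearMap.congr_fun hfs x
  let c : Fin n → ∀ i, P i := fun j i => finsuppScalarLeft R (P i) (Fin n) (LinearMap.rTensor (P i) s' (y i)) j
  have hc : ∀ j, c j ∈ LinearMap.range (LinearMap.pi φ) := by
    intro j
    apply hφ
    intro k
    simp only [c]
    rw [← hy k]
    conv_rhs => rw [← LinearMap.comp_apply (LinearMap.rTensor _ s'), LinearMap.rTensor_comp_lTensor,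
      ← LinearMap.lTensor_comp_rTensor, LinearMap.comp_apply]
    exact (finsuppScalarLeft_lTensor (N := P (a k)) (P := fun _ : Unit => P (b k)) (fun _ => ψ k) _ () j).symm
  choose z hz using hc
  let w : (Fin n →₀ R) ⊗[R] N := (finsuppScalarLeft R N (Fin n)).symm (Finsupp.equivFunOnFinite.symm z)
  refine ⟨LinearMap.rTensor N f' w, ?_⟩
  ext i
  have hw : LinearMap.lTensor _ (φ i) w = LinearMap.rTensor (P i) s' (y i) := by
    apply (finsuppScalarLeft R (P i) (Fin n)).injective
    ext j
    rw [finsuppScalarLeft_lTensor]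
    simp only [w, LinearEquiv.apply_symm_apply, Finsupp.equivFunOnFinite_symm_apply_apply]
    exact congrFun (hz j) i
  rw [LinearMap.pi_apply, ← LinearMap.comp_apply, LinearMap.lTensor_comp_rTensor, ← LinearMap.rTensor_comp_lTensor,
    LinearMap.comp_apply, hw, ← LinearMap.comp_apply, ← LinearMap.rTensor_comp, hfs', LinearMap.rTensor_id, LinearMap.id_apply]

end Groth.Agent.FrobW.ProjPi
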