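import Groth.Prelude.Def_FrobAlg
import Mathlib.RingTheory.Etale.Basic
import Mathlib.RingTheory.Unramified.Finite
import Mathlib.RingTheory.FinitePresentation
import Mathlib.RingTheory.Noetherian.Nilpotent
import Mathlib.RingTheory.IntegralClosure.IsIntegralClosure.Basic
import Mathlib.Algebra.Algebra.Epi
import Mathlib.Tactic.Ring

/-!
The relative Frobenius and étale algebras in characteristic `p`.
-/

namespace Groth.Agent.FrobW.RelFrob

universe u

open TensorProduct

section Lift

/-- A ring map out of a formally smooth algebra lifts along a surjection with nilpotent kernel. -/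
theorem exists_lift {R S T T' : Type*} [CommRing R] [CommRing S] [CommRing T] [CommRing T'] [Algebra R S]
    [Algebra.FormallySmooth R S] (f : R →+* T) (π : T →+* T') (hπ : Function.Surjective π)
    (hn : IsNilpotent (RingHom.ker π))
    (g : S →+* T') (hg : g.comp (algebraMap R S) = π.comp f) :
    ∃ h : S →+* T, h.comp (algebraMap R S) = f ∧ π.comp h = g := by
  letI : Algebra R T := f.toAlgebra
  letI : Algebra R T' := (π.comp f).toAlgebra
  let πa : T →ₐ[R] T' := { π with commutes' := fun r => rfl }
  let ga : S →ₐ[R] T' := { g with commutes' := fun r => RingHom.congr_fun hg r }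
  refine ⟨(Algebra.FormallySmooth.liftOfSurjective ga πa hπ hn).toRingHom, ?_, ?_⟩
  · exact RingHom.ext fun r => (Algebra.FormallySmooth.liftOfSurjective ga πa hπ hn).commutes r
  · exact RingHom.ext fun s => Algebra.FormallySmooth.liftOfSurjective_apply ga πa hπ hn s

theorem add_pow_eq {R : Type*} [CommRing R] (p : ℕ) [Fact p.Prime] (hp : (p : R) = 0) (x y : R) :
    (x + y) ^ p = x ^ p + y ^ p := by
  obtain ⟨r, hr⟩ := exists_add_pow_prime_eq (Fact.out : p.Prime) x y
  rw [hr, hp]; ring

theorem sub_pow_eq {R : Type*} [CommRing R] (p : ℕ) [Fact p.Prime] (hp : (p : R) = 0) (x y : R) :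
    (x - y) ^ p = x ^ p - y ^ p := by
  rw [eq_sub_iff_add_eq, ← add_pow_eq p hp, sub_add_cancel]

end Lift

variable (p : ℕ) [Fact p.Prime] (A : Type u) [CommRing A] [CharP A p]
  (B : Type u) [CommRing B] [Algebra A B] [CharP B p]

theorem relFrob_tmul (b : B) (a : A) :
    FrobAlg.relFrob p A B (b ⊗ₜ[A] FrobAlg.toTwist p A a) = b ^ p * algebraMap A B a := rfl

theorem relFrob_tmul_one (b : B) : FrobAlg.relFrob p A B (b ⊗ₜ[A] (1 : FrobAlg.Twist p A)) = b ^ p := by
  rw [← map_one (FrobAlg.toTwist p A), relFrob_tmul, map_one, mul_one]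

theorem natCast_baseChange : (p : FrobAlg.BaseChange p A B) = 0 := by
  rw [← map_natCast (Algebra.TensorProduct.includeLeftRingHom : B →+* FrobAlg.BaseChange p A B), CharP.cast_eq_zero, map_zero]

theorem pow_eq_relFrob_tmul (x : FrobAlg.BaseChange p A B) :
    x ^ p = FrobAlg.relFrob p A B x ⊗ₜ[A] (1 : FrobAlg.Twist p A) := by
  induction x using TensorProduct.induction_on with
  | zero => rw [map_zero, TensorProduct.zero_tmul, zero_pow (Fact.out : p.Prime).ne_zero]
  | tmul b c =>
    obtain ⟨a, rfl⟩ := (FrobAlg.toTwist p A).surjective c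
    rw [relFrob_tmul, Algebra.TensorProduct.tmul_pow, ← map_pow, ← FrobAlg.algebraMap_twist, Algebra.algebraMap_eq_smul_one,
      ← TensorProduct.smul_tmul, Algebra.smul_def, mul_comm]
  | add x y hx hy => rw [map_add, TensorProduct.add_tmul, ← hx, ← hy, add_pow_eq p (natCast_baseChange p A B)]

/-- The structure map `a ↦ 1 ⊗ a` into the Frobenius twist. -/
noncomputable def incl : A →+* FrobAlg.BaseChange p A B :=
  (Algebra.TensorProduct.includeRight (R := A) (A := B) (B := FrobAlg.Twist p A)).toRingHom.comp (FrobAlg.toTwist p A).toRingHom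

theorem incl_apply (a : A) : incl p A B a = (1 : B) ⊗ₜ[A] FrobAlg.toTwist p A a := rfl

theorem relFrob_comp_incl : (FrobAlg.relFrob p A B).comp (incl p A B) = algebraMap A B := by
  refine RingHom.ext fun a => ?_
  rw [RingHom.comp_apply, incl_apply, relFrob_tmul, one_pow, one_mul]

theorem tmul_eq_mul (b : B) (a : A) :
    b ⊗ₜ[A] FrobAlg.toTwist p A a = b ⊗ₜ[A] (1 : FrobAlg.Twist p A) * incl p A B a := by
  rw [incl_apply, Algebra.TensorProduct.tmul_mul_tmul, mul_one, one_mul]

/-- If the relative Frobenius is surjective then `B` is formally unramified. -/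
theorem formallyUnramified_of_surjective (h : Function.Surjective (FrobAlg.relFrob p A B)) :
    Algebra.FormallyUnramified A B := by
  rw [Algebra.FormallyUnramified.iff_comp_injective]
  intro C _ _ I hI f g hfg
  have hp : (p : C) = 0 := by rw [← map_natCast (algebraMap A C), CharP.cast_eq_zero, map_zero]
  have hpow : ∀ b, f b ^ p = g b ^ p := fun b => by
    have hb : f b - g b ∈ I := by rw [← Ideal.Quotient.eq]; exact DFunLike.congr_fun hfg b
    rw [← sub_eq_zero, ← sub_pow_eq p hp]
    refine pow_eq_zero_of_le (Fact.out : p.Prime).two_le ?_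
    rw [← Ideal.mem_bot, ← hI]; exact Ideal.pow_mem_pow hb 2
  have key : f.toRingHom.comp (FrobAlg.relFrob p A B) = g.toRingHom.comp (FrobAlg.relFrob p A B) := by
    refine RingHom.ext fun x => ?_
    induction x using TensorProduct.induction_on with
    | zero => simp
    | tmul b c =>
      obtain ⟨a, rfl⟩ := (FrobAlg.toTwist p A).surjective c
      simp [relFrob_tmul, hpow]
    | add x y hx hy => rw [map_add, map_add, hx, hy]
  exact AlgHom.ext fun b => by obtain ⟨x, rfl⟩ := h b; exact RingHom.congr_fun key x

/-- If the relative Frobenius is bijective then `B` is formally étale. -/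
theorem formallyEtale_of_bijective (h : Function.Bijective (FrobAlg.relFrob p A B)) :
    Algebra.FormallyEtale A B := by
  haveI := formallyUnramified_of_surjective p A B h.2
  rw [Algebra.FormallyEtale.iff_comp_bijective]
  intro C _ _ I hI
  refine ⟨Algebra.FormallyUnramified.comp_injective I hI, fun g => ?_⟩
  rcases subsingleton_or_nontrivial C with hC | hC
  · haveI : Subsingleton (C ⧸ I) := Ideal.Quotient.mk_surjective.subsingleton
    exact ⟨{ toFun := fun _ => 0
             map_one' := Subsingleton.elim _ _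
             map_mul' := fun _ _ => Subsingleton.elim _ _
             map_zero' := rfl
             map_add' := fun _ _ => Subsingleton.elim _ _
             commutes' := fun _ => Subsingleton.elim _ _ }, AlgHom.ext fun _ => Subsingleton.elim _ _⟩
  have hp : (p : C) = 0 := by rw [← map_natCast (algebraMap A C), CharP.cast_eq_zero, map_zero]
  haveI : CharP C p := (CharP.charP_iff_prime_eq_zero (Fact.out : p.Prime)).mpr hp
  let ψ : C ⧸ I →+* C := Ideal.Quotient.lift I (frobenius C p) fun x hx => by
    rw [frobenius_def]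
    refine pow_eq_zero_of_le (Fact.out : p.Prime).two_le ?_
    rw [← Ideal.mem_bot, ← hI]; exact Ideal.pow_mem_pow hx 2
  have hψ : ∀ x : C, ψ (Ideal.Quotient.mk I x) = x ^ p := fun x => rfl
  have hmkψ : ∀ y : C ⧸ I, Ideal.Quotient.mk I (ψ y) = y ^ p := fun y => by
    obtain ⟨x, rfl⟩ := Ideal.Quotient.mk_surjective y
    rw [hψ, map_pow]
  let f1 : B →ₐ[A] FrobAlg.Target p A C :=
    { toRingHom := (FrobAlg.toTarget p A C).toRingHom.comp (ψ.comp g.toRingHom)
      commutes' := fun a => by
        change FrobAlg.toTarget p A C (ψ (g (algebraMap A B a))) = FrobAlg.toTarget p A C ((algebraMap A C a) ^ p)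
        rw [g.commutes]
        rfl }
  let L : FrobAlg.BaseChange p A B →+* C := (FrobAlg.toTarget p A C).symm.toRingHom.comp
    (Algebra.TensorProduct.lift f1 (FrobAlg.inclHom p A C) (fun _ _ => Commute.all _ _)).toRingHom
  have hL : ∀ b a, L (b ⊗ₜ[A] FrobAlg.toTwist p A a) = ψ (g b) * algebraMap A C a := fun b a => rfl
  let e := RingEquiv.ofBijective (FrobAlg.relFrob p A B) h
  have he : ∀ x, e.symm (FrobAlg.relFrob p A B x) = x := fun x => e.symm_apply_apply x
  have hgL : ∀ x, Ideal.Quotient.mk I (L x) = g (FrobAlg.relFrob p A B x) := fun x => by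
    induction x using TensorProduct.induction_on with
    | zero => simp
    | tmul b c =>
      obtain ⟨a, rfl⟩ := (FrobAlg.toTwist p A).surjective c
      rw [hL, relFrob_tmul, map_mul, map_mul, map_pow, hmkψ, g.commutes]
      rfl
    | add x y hx hy => rw [map_add, map_add, map_add, map_add, hx, hy]
  refine ⟨{ toRingHom := L.comp e.symm.toRingHom, commutes' := fun a => ?_ }, AlgHom.ext fun b => ?_⟩
  · change L (e.symm (algebraMap A B a)) = algebraMap A C a
    have h1 : e.symm (algebraMap A B a) = (1 : B) ⊗ₜ[A] FrobAlg.toTwist p A a := by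
      rw [← relFrob_comp_incl p A B]; exact he _
    refine (congrArg L h1).trans ((hL 1 a).trans ?_)
    rw [map_one, map_one, one_mul]
  · obtain ⟨x, rfl⟩ := h.2 b
    change Ideal.Quotient.mk I (L (e.symm (FrobAlg.relFrob p A B x))) = g (FrobAlg.relFrob p A B x)
    rw [he, hgL]

/-- The relative Frobenius of an unramified algebra is surjective. -/
theorem surjective_of_unramified [Algebra.FiniteType A B] [Algebra.FormallyUnramified A B] :
    Function.Surjective (FrobAlg.relFrob p A B) := by
  letI : Algebra (FrobAlg.BaseChange p A B) B := (FrobAlg.relFrob p A B).toAlgebra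
  let S := FrobAlg.BaseChange p A B
  haveI : Algebra.FiniteType S B := by
    have h : (algebraMap A B).FiniteType := RingHom.finiteType_algebraMap.2 ‹_›
    rw [← relFrob_comp_incl p A B] at h
    exact RingHom.FiniteType.of_comp_finiteType h
  haveI : Algebra.IsIntegral S B := ⟨fun b => by
    refine ⟨Polynomial.X ^ p - Polynomial.C (b ⊗ₜ[A] (1 : FrobAlg.Twist p A)),
      Polynomial.monic_X_pow_sub_C _ (Fact.out : p.Prime).ne_zero, ?_⟩
    simp [RingHom.algebraMap_toAlgebra]
    exact sub_eq_zero.2 (relFrob_tmul_one p A B b).symm⟩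
  haveI : Module.Finite S B := Algebra.IsIntegral.finite
  haveI : Algebra.FormallyUnramified S B := by
    rw [Algebra.FormallyUnramified.iff_comp_injective]
    intro C _ _ I hI f g hfg
    letI : Algebra A C := ((algebraMap S C).comp (incl p A B)).toAlgebra
    have hc : ∀ f : B →ₐ[S] C, ∀ a, f.toRingHom (algebraMap A B a) = algebraMap A C a := fun f a => by
      rw [← relFrob_comp_incl p A B]; exact f.commutes _
    have := Algebra.FormallyUnramified.comp_injective I hI
      (a₁ := ({ f.toRingHom with commutes' := hc f } : B →ₐ[A] C)) (a₂ := { g.toRingHom with commutes' := hc g })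
      (AlgHom.ext fun x => (DFunLike.congr_fun hfg x : _))
    exact AlgHom.ext fun x => (DFunLike.congr_fun this x : _)
  refine (Algebra.isEpi_iff_surjective_algebraMap_of_finite (R := S) (A := B)).1
    ((Algebra.isEpi_iff_forall_one_tmul_eq S B).2 fun b => ?_)
  have hfg := KaehlerDifferential.ideal_fg S B
  have hid : IsIdempotentElem (KaehlerDifferential.ideal S B) :=
    (Ideal.cotangent_subsingleton_iff _).mp <| inferInstanceAs <| Subsingleton Ω[B⁄S]
  have hp2 : (p : B ⊗[S] B) = 0 := by
    rw [← map_natCast (Algebra.TensorProduct.includeLeftRingHom : B →+* B ⊗[S] B), CharP.cast_eq_zero, map_zero]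
  have hle : KaehlerDifferential.ideal S B ≤ nilradical (B ⊗[S] B) := by
    rw [← KaehlerDifferential.span_range_eq_ideal, Ideal.span_le]
    rintro _ ⟨b, rfl⟩
    refine ⟨p, ?_⟩
    rw [sub_pow_eq p hp2, Algebra.TensorProduct.tmul_pow, Algebra.TensorProduct.tmul_pow, one_pow,
      show b ^ p = algebraMap S B (b ⊗ₜ[A] (1 : FrobAlg.Twist p A)) from (relFrob_tmul_one p A B b).symm,
      Algebra.algebraMap_eq_smul_one, ← TensorProduct.smul_tmul, sub_self]
    exact Submodule.zero_mem _
  obtain ⟨n, hn⟩ := (Ideal.FG.isNilpotent_iff_le_nilradical hfg).2 hle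
  have hbot : KaehlerDifferential.ideal S B = ⊥ := by
    rcases n with _ | n
    · refine eq_bot_iff.2 fun x _ => ?_
      rw [← Submodule.zero_eq_bot, ← hn, pow_zero, Ideal.one_eq_top]
      exact Submodule.mem_top
    · rw [← hid.pow_succ_eq n]
      exact hn
  rw [← sub_eq_zero, ← Ideal.mem_bot, ← hbot]
  exact KaehlerDifferential.one_smul_sub_smul_one_mem_ideal S b

/-- The relative Frobenius of an étale algebra is bijective. -/
theorem bijective_of_etale [Algebra.Etale A B] : Function.Bijective (FrobAlg.relFrob p A B) := by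
  have hsurj := surjective_of_unramified p A B
  refine ⟨?_, hsurj⟩
  obtain ⟨n, φ, hφ⟩ := Algebra.FiniteType.iff_quotient_mvPolynomial''.1 (inferInstance : Algebra.FiniteType A B)
  let ψ : MvPolynomial (Fin n) A →+* FrobAlg.BaseChange p A B :=
    MvPolynomial.eval₂Hom (incl p A B) fun i => φ (MvPolynomial.X i) ⊗ₜ[A] (1 : FrobAlg.Twist p A)
  have hψφ : ψ.comp (MvPolynomial.map (frobenius A p)) =
      (Algebra.TensorProduct.includeLeftRingHom : B →+* FrobAlg.BaseChange p A B).comp φ.toRingHom := by
    refine MvPolynomial.ringHom_ext (fun a => ?_) fun i => ?_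
    · rw [RingHom.comp_apply, RingHom.comp_apply, MvPolynomial.map_C]
      change ψ (MvPolynomial.C (frobenius A p a)) = φ (MvPolynomial.C a) ⊗ₜ[A] (1 : FrobAlg.Twist p A)
      rw [MvPolynomial.eval₂Hom_C, incl_apply, frobenius_def, ← FrobAlg.algebraMap_twist, ← MvPolynomial.algebraMap_eq,
        AlgHom.commutes, Algebra.algebraMap_eq_smul_one, Algebra.algebraMap_eq_smul_one, TensorProduct.smul_tmul]
    · simp [ψ]
  have hψ : Function.Surjective ψ := by
    intro x
    induction x using TensorProduct.induction_on with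
    | zero => exact ⟨0, map_zero _⟩
    | tmul b c =>
      obtain ⟨a, rfl⟩ := (FrobAlg.toTwist p A).surjective c
      obtain ⟨P, rfl⟩ := hφ b
      refine ⟨MvPolynomial.map (frobenius A p) P * MvPolynomial.C a, ?_⟩
      rw [map_mul, tmul_eq_mul, MvPolynomial.eval₂Hom_C, ← RingHom.comp_apply ψ, hψφ]
      rfl
    | add x y hx hy =>
      obtain ⟨P, rfl⟩ := hx
      obtain ⟨Q, rfl⟩ := hy
      exact ⟨P + Q, map_add _ _ _⟩
  let g : MvPolynomial (Fin n) A →ₐ[A] B :=
    { toRingHom := (FrobAlg.relFrob p A B).comp ψ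
      commutes' := fun a => by
        change FrobAlg.relFrob p A B (ψ (MvPolynomial.C a)) = _
        rw [MvPolynomial.eval₂Hom_C]
        exact RingHom.congr_fun (relFrob_comp_incl p A B) a }
  have hgfg : (RingHom.ker g.toRingHom).FG :=
    Algebra.FinitePresentation.ker_fg_of_mvPolynomial g (hsurj.comp hψ)
  have hJfg : (RingHom.ker (FrobAlg.relFrob p A B)).FG := by
    have h : RingHom.ker (FrobAlg.relFrob p A B) = (RingHom.ker g.toRingHom).map ψ := by
      rw [show g.toRingHom = (FrobAlg.relFrob p A B).comp ψ from rfl, ← RingHom.comap_ker, Ideal.map_comap_of_surjective ψ hψ]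
    rw [h]; exact hgfg.map ψ
  have hJ : RingHom.ker (FrobAlg.relFrob p A B) ≤ nilradical _ := fun x hx =>
    ⟨p, by rw [pow_eq_relFrob_tmul, RingHom.mem_ker.1 hx, TensorProduct.zero_tmul]; exact Submodule.zero_mem _⟩
  obtain ⟨s, hs1, hs2⟩ := exists_lift (incl p A B) (FrobAlg.relFrob p A B) hsurj
    ((Ideal.FG.isNilpotent_iff_le_nilradical hJfg).2 hJ) (RingHom.id B) (relFrob_comp_incl p A B).symm
  have hleft : ∀ x, s (FrobAlg.relFrob p A B x) = x := fun x => by
    induction x using TensorProduct.induction_on with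
    | zero => simp
    | tmul b c =>
      obtain ⟨a, rfl⟩ := (FrobAlg.toTwist p A).surjective c
      rw [relFrob_tmul, map_mul, map_pow, ← RingHom.comp_apply s (algebraMap A B), hs1, pow_eq_relFrob_tmul,
        ← RingHom.comp_apply (FrobAlg.relFrob p A B) s, hs2, RingHom.id_apply, ← tmul_eq_mul]
    | add x y hx hy => rw [map_add, map_add, hx, hy]
  exact Function.LeftInverse.injective hleft

end Groth.Agent.FrobW.RelFrob
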