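import Groth.Prelude.Def_W4c1liftfrobW2
import Mathlib.RingTheory.WittVector.DiscreteValuationRing
import Mathlib.RingTheory.Flat.EquationalCriterion

/-!
Basic facts about `W₂(k)` for a perfect field `k` of characteristic `p`.
-/

namespace Groth.Agent.FrobW.W2

variable (p : ℕ) [Fact p.Prime] (k : Type*) [Field k] [CharP k p]

theorem natCast_coeff (i : Fin 2) : (p : TruncatedWittVector p 2 k).coeff i = (p : WittVector p k).coeff i := by
  rw [← map_natCast (WittVector.truncate 2 : WittVector p k →+* _), WittVector.coeff_truncate]

theorem natCast_ne_zero : (p : TruncatedWittVector p 2 k) ≠ 0 := by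
  intro h
  have h1 := natCast_coeff p k 1
  rw [h, Fin.val_one, WittVector.coeff_p_one, TruncatedWittVector.coeff_zero] at h1
  exact zero_ne_one h1

theorem natCast_sq : (p : TruncatedWittVector p 2 k) ^ 2 = 0 := by
  rw [← map_natCast (WittVector.truncate 2 : WittVector p k →+* _), ← map_pow, ← RingHom.mem_ker, WittVector.mem_ker_truncate]
  intro i hi
  exact WittVector.coeff_p_pow_eq_zero p k hi.ne

variable [PerfectRing k p]

theorem isUnit_or_dvd (a : TruncatedWittVector p 2 k) : IsUnit a ∨ (p : TruncatedWittVector p 2 k) ∣ a := by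
  obtain ⟨A, rfl⟩ := WittVector.truncate_surjective p 2 k a
  by_cases hA : A = 0
  · exact Or.inr (by rw [hA, map_zero]; exact dvd_zero _)
  obtain ⟨m, b, hb, rfl⟩ := WittVector.exists_eq_pow_p_mul A hA
  cases m with
  | zero =>
    refine Or.inl ?_
    rw [pow_zero, one_mul]
    exact (WittVector.isUnit_of_coeff_zero_ne_zero b hb).map _
  | succ m => exact Or.inr ⟨WittVector.truncate 2 ((p : WittVector p k) ^ m * b), by rw [pow_succ', mul_assoc, map_mul, map_natCast]⟩

theorem dvd_of_mul_eq_zero {a : TruncatedWittVector p 2 k} (h : (p : TruncatedWittVector p 2 k) * a = 0) :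
    (p : TruncatedWittVector p 2 k) ∣ a := by
  refine (isUnit_or_dvd p k a).resolve_left fun ha => natCast_ne_zero p k ?_
  exact ha.mul_left_eq_zero.1 h

theorem flat_iff (M : Type*) [AddCommGroup M] [Module (TruncatedWittVector p 2 k) M] :
    Module.Flat (TruncatedWittVector p 2 k) M ↔
      ∀ m : M, (p : TruncatedWittVector p 2 k) • m = 0 → ∃ m' : M, m = (p : TruncatedWittVector p 2 k) • m' := by
  set P := (p : TruncatedWittVector p 2 k)
  constructor
  · intro h m hm
    obtain ⟨n, a, y, hy, ha⟩ := Module.Flat.isTrivialRelation_of_sum_smul_eq_zero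
      (f := fun _ : Fin 1 => P) (x := fun _ => m) (by simpa using hm)
    choose b hb using fun j => dvd_of_mul_eq_zero p k (a := a 0 j) (by simpa using ha j)
    exact ⟨∑ j, b j • y j, by rw [Finset.smul_sum]; refine (hy 0).trans ?_; exact Finset.sum_congr rfl fun j _ => by rw [hb, mul_smul]⟩
  · intro h
    apply Module.Flat.iff_lift_lsmul_comp_subtype_injective.2
    intro I _
    rw [← LinearMap.ker_eq_bot, eq_bot_iff]
    intro t ht
    rw [LinearMap.mem_ker] at ht
    by_cases hu : ∃ u ∈ I, IsUnit u
    · obtain ⟨u, hu, huu⟩ := hu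
      obtain ⟨v, hv⟩ := huu.exists_left_inv
      have key : ∀ t, t = (⟨u, hu⟩ : I) ⊗ₜ[_] (v • TensorProduct.lift ((LinearMap.lsmul _ M).comp I.subtype) t) := by
        intro t
        induction t using TensorProduct.induction_on with
        | zero => simp
        | tmul i m =>
          rw [TensorProduct.lift.tmul, LinearMap.comp_apply, LinearMap.lsmul_apply, Submodule.subtype_apply, smul_smul,
            ← TensorProduct.smul_tmul]
          congr 1
          ext
          rw [SetLike.val_smul, smul_eq_mul, mul_comm v, mul_assoc]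
          simp only [hv, mul_one]
        | add x y hx hy => rw [map_add, smul_add, TensorProduct.tmul_add, ← hx, ← hy]
      rw [key t, ht, smul_zero, TensorProduct.tmul_zero]
      exact Submodule.zero_mem _
    · have hdvd : ∀ i : I, P ∣ (i : TruncatedWittVector p 2 k) := fun i =>
        (isUnit_or_dvd p k _).resolve_left fun hi => hu ⟨i, i.2, hi⟩
      by_cases hz : P ∈ I
      · have key : ∀ t : TensorProduct (TruncatedWittVector p 2 k) I M, ∃ m, t = (⟨P, hz⟩ : I) ⊗ₜ[TruncatedWittVector p 2 k] m := by
          intro t
          induction t using TensorProduct.induction_on with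
          | zero => exact ⟨0, by simp⟩
          | tmul i m =>
            obtain ⟨c, hc⟩ := hdvd i
            refine ⟨c • m, ?_⟩
            rw [← TensorProduct.smul_tmul]
            congr 1
            ext
            rw [SetLike.val_smul, smul_eq_mul, hc, mul_comm]
          | add x y hx hy =>
            obtain ⟨a, rfl⟩ := hx
            obtain ⟨b, rfl⟩ := hy
            exact ⟨a + b, (TensorProduct.tmul_add _ _ _).symm⟩
        obtain ⟨m, rfl⟩ := key t
        rw [TensorProduct.lift.tmul] at ht
        obtain ⟨m', rfl⟩ := h m ht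
        rw [← TensorProduct.smul_tmul, show P • (⟨P, hz⟩ : I) = 0 from Subtype.ext
          (by rw [SetLike.val_smul, smul_eq_mul, ← pow_two, natCast_sq]; rfl), TensorProduct.zero_tmul]
        exact Submodule.zero_mem _
      · have hI : ∀ i : I, i = 0 := fun i => by
          obtain ⟨c, hc⟩ := hdvd i
          rcases isUnit_or_dvd p k c with hcu | ⟨d, rfl⟩
          · obtain ⟨v, hv⟩ := hcu.exists_left_inv
            refine absurd ?_ hz
            rw [show P = v * (i : TruncatedWittVector p 2 k) by rw [hc]; linear_combination -P * hv]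
            exact I.mul_mem_left _ i.2
          · exact Subtype.ext (by rw [hc, ← mul_assoc, ← pow_two, natCast_sq, zero_mul]; rfl)
        haveI : Subsingleton I := ⟨fun a b => by rw [hI a, hI b]⟩
        rw [Subsingleton.elim t 0]
        exact Submodule.zero_mem _

end Groth.Agent.FrobW.W2
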