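import Groth.Agent.FrobW.W2
import Mathlib.Tactic.Ring
import Mathlib.Tactic.LinearCombination

/-!
Structure of truncated Witt vectors in characteristic `p`: shifts, multiplication by `p`, and the
ring of lifts `W₂(k)`.
-/

namespace Groth.Agent.FrobW.Witt

universe v

variable {p : ℕ} [Fact p.Prime]

section

variable {R : Type*} [CommRing R] {m : ℕ}

theorem coeff_zero_truncate_succ (X : WittVector p R) :
    (WittVector.truncate (m + 1) X).coeff 0 = X.coeff 0 := by
  rw [WittVector.coeff_truncate]; rfl

theorem coeff_zero_shift (x : TruncatedWittVector p m R) :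
    (WittGrp.shift p (Nat.le_succ m) x).coeff 0 = 0 := by
  rw [WittGrp.coeff_shift, dif_neg]
  simp

theorem shift_injective : Function.Injective (WittGrp.shift p (Nat.le_succ m) :
    TruncatedWittVector p m R → TruncatedWittVector p m.succ R) := by
  intro x y h
  refine TruncatedWittVector.ext fun i => ?_
  have := congrArg (TruncatedWittVector.coeff i.succ) h
  rw [WittGrp.coeff_shift, WittGrp.coeff_shift, dif_pos (by simp), dif_pos (by simp)] at this
  convert this using 2 <;> ext <;> simp

theorem exists_shift_eq {w : TruncatedWittVector p (m + 1) R} (hw : w.coeff 0 = 0) :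
    ∃ x, WittGrp.shift p (Nat.le_succ m) x = w := by
  refine ⟨TruncatedWittVector.mk p fun i => w.coeff i.succ, TruncatedWittVector.ext fun i => ?_⟩
  rw [WittGrp.coeff_shift]
  rcases Fin.eq_zero_or_eq_succ i with rfl | ⟨j, rfl⟩
  · rw [dif_neg (by simp), hw]
  · rw [dif_pos (by simp), TruncatedWittVector.coeff_mk]
    congr 1
    ext
    simp

/-- The frobenius of the restriction of `y` to length `m`. -/
noncomputable def frobRestr (hp : (p : R) = 0) : TruncatedWittVector p (m + 1) R →+* TruncatedWittVector p m R :=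
  (WittGrp.frob p m hp).comp (TruncatedWittVector.truncate (Nat.le_succ m))

theorem coeff_frobRestr (hp : (p : R) = 0) (y : TruncatedWittVector p (m + 1) R) (i : Fin m) :
    (frobRestr hp y).coeff i = y.coeff i.castSucc ^ p := by
  rw [frobRestr, RingHom.comp_apply, WittGrp.coeff_frob, TruncatedWittVector.coeff_truncate]
  rfl

theorem mul_shift (hp : (p : R) = 0) (y : TruncatedWittVector p (m + 1) R) (x : TruncatedWittVector p m R) :
    y * WittGrp.shift p (Nat.le_succ m) x = WittGrp.shift p (Nat.le_succ m) (frobRestr hp y * x) := by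
  rcases subsingleton_or_nontrivial R with h | h
  · exact TruncatedWittVector.ext fun i => Subsingleton.elim _ _
  haveI : CharP R p := (CharP.charP_iff_prime_eq_zero (Fact.out : p.Prime)).mpr hp
  obtain ⟨Y, rfl⟩ := WittVector.truncate_surjective p (m + 1) R y
  obtain ⟨X, rfl⟩ := WittVector.truncate_surjective p m R x
  rw [frobRestr, RingHom.comp_apply, TruncatedWittVector.truncate_wittVector_truncate, WittGrp.frob_truncate,
    ← map_mul (WittVector.truncate m), WittGrp.shift_truncate, WittGrp.shift_truncate, ← map_mul,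
    show m.succ - m = 1 by omega, Function.iterate_one, mul_comm Y, mul_comm (WittVector.frobenius Y),
    WittVector.verschiebung_mul_frobenius]

theorem natCast_mul (hp : (p : R) = 0) (y : TruncatedWittVector p (m + 1) R) :
    (p : TruncatedWittVector p (m + 1) R) * y = WittGrp.shift p (Nat.le_succ m) (frobRestr hp y) := by
  rcases subsingleton_or_nontrivial R with h | h
  · exact TruncatedWittVector.ext fun i => Subsingleton.elim _ _
  haveI : CharP R p := (CharP.charP_iff_prime_eq_zero (Fact.out : p.Prime)).mpr hp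
  obtain ⟨Y, rfl⟩ := WittVector.truncate_surjective p (m + 1) R y
  rw [frobRestr, RingHom.comp_apply, TruncatedWittVector.truncate_wittVector_truncate, WittGrp.frob_truncate,
    WittGrp.shift_truncate, show m.succ - m = 1 by omega, Function.iterate_one, WittVector.verschiebung_frobenius,
    map_mul, map_natCast, mul_comm]

/-- Shifting a component of length one. -/
noncomputable def vOne : R →+ TruncatedWittVector p 2 R :=
  AddMonoidHom.mk' (fun a => WittGrp.shift p (Nat.le_succ 1) (TruncatedWittVector.mk p fun _ => a)) fun a b => by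
    rw [← map_add]
    congr 1
    obtain ⟨A, hA⟩ := WittVector.truncate_surjective p 1 R (TruncatedWittVector.mk p fun _ => a)
    obtain ⟨B, hB⟩ := WittVector.truncate_surjective p 1 R (TruncatedWittVector.mk p fun _ => b)
    rw [← hA, ← hB, ← map_add]
    refine TruncatedWittVector.ext fun i => ?_
    obtain rfl : i = 0 := Subsingleton.elim _ _
    rw [TruncatedWittVector.coeff_mk, WittVector.coeff_truncate, Fin.val_zero, WittVector.add_coeff_zero]
    have ha := congrArg (TruncatedWittVector.coeff 0) hA
    have hb := congrArg (TruncatedWittVector.coeff 0) hB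
    rw [WittVector.coeff_truncate, TruncatedWittVector.coeff_mk, Fin.val_zero] at ha hb
    rw [ha, hb]

@[simp] theorem coeff_vOne_zero (a : R) : (vOne (p := p) a).coeff 0 = 0 := coeff_zero_shift _

@[simp] theorem coeff_vOne_one (a : R) : (vOne (p := p) a).coeff 1 = a := by
  simp [vOne, WittGrp.coeff_shift]

theorem eq_vOne {w : TruncatedWittVector p 2 R} (hw : w.coeff 0 = 0) : w = vOne (w.coeff 1) := by
  refine TruncatedWittVector.ext fun i => ?_
  fin_cases i
  · simpa using hw
  · simp

theorem mul_vOne (hp : (p : R) = 0) (y : TruncatedWittVector p 2 R) (a : R) :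
    y * vOne a = vOne (y.coeff 0 ^ p * a) := by
  refine (mul_shift hp y _).trans (congrArg _ (TruncatedWittVector.ext fun i => ?_))
  obtain rfl : i = 0 := Subsingleton.elim _ _
  obtain ⟨Y, hY⟩ := WittVector.truncate_surjective p 1 R (frobRestr hp y)
  obtain ⟨A, hA⟩ := WittVector.truncate_surjective p 1 R (TruncatedWittVector.mk p fun _ => a)
  rw [← hY, ← hA, ← map_mul, WittVector.coeff_truncate, TruncatedWittVector.coeff_mk, Fin.val_zero,
    WittVector.mul_coeff_zero]
  have h1 := congrArg (TruncatedWittVector.coeff 0) hY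
  have h2 := congrArg (TruncatedWittVector.coeff 0) hA
  rw [WittVector.coeff_truncate, coeff_frobRestr, Fin.val_zero] at h1
  rw [WittVector.coeff_truncate, TruncatedWittVector.coeff_mk, Fin.val_zero] at h2
  rw [h1, h2]
  rfl

theorem natCast_mul_two (hp : (p : R) = 0) (y : TruncatedWittVector p 2 R) :
    (p : TruncatedWittVector p 2 R) * y = vOne (y.coeff 0 ^ p) := by
  rw [natCast_mul hp]
  refine congrArg _ (TruncatedWittVector.ext fun i => ?_)
  obtain rfl : i = 0 := Subsingleton.elim _ _
  rw [coeff_frobRestr, TruncatedWittVector.coeff_mk]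
  rfl

/-- The residue map of length two vectors. -/
theorem res_eq (w : FrobAlg.W2 p R) : FrobAlg.res p R w = w.coeff 0 := FrobAlg.res_apply p R w

theorem mul_eq_zero_of_res (hp : (p : R) = 0) {u v : FrobAlg.W2 p R} (hu : FrobAlg.res p R u = 0)
    (hv : FrobAlg.res p R v = 0) : u * v = 0 := by
  rw [res_eq] at hu hv
  rw [eq_vOne hv, mul_vOne hp, hu, zero_pow (Fact.out : p.Prime).ne_zero, zero_mul, map_zero]

theorem natCast_mul_eq_zero_of_res (hp : (p : R) = 0) {u : FrobAlg.W2 p R} (hu : FrobAlg.res p R u = 0) :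
    (p : FrobAlg.W2 p R) * u = 0 := by
  rw [res_eq] at hu
  rw [natCast_mul_two hp, hu, zero_pow (Fact.out : p.Prime).ne_zero, map_zero]

end

section

variable {k : Type*} [Field k] [CharP k p] [PerfectRing k p]

theorem ker_res : RingHom.ker (FrobAlg.res p k) = Ideal.span {(p : FrobAlg.W2 p k)} := by
  refine le_antisymm (fun a ha => ?_) (Ideal.span_le.2 ?_)
  · rcases Groth.Agent.FrobW.W2.isUnit_or_dvd p k a with h | h
    · exact absurd (RingHom.mem_ker.1 ha) (h.map (FrobAlg.res p k)).ne_zero
    · exact Ideal.mem_span_singleton.2 h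
  · rintro _ rfl
    simp [RingHom.mem_ker, CharP.cast_eq_zero]

theorem map_ker_res {B : Type*} [CommRing B] (ι : FrobAlg.W2 p k →+* B) :
    Ideal.map ι (RingHom.ker (FrobAlg.res p k)) = Ideal.span {(p : B)} := by
  rw [ker_res, Ideal.map_span, Set.image_singleton, map_natCast]

/-- Two ring maps out of `W₂(k)` agreeing modulo a square-zero ideal killed by `p` are equal. -/
theorem hom_ext {C D : Type*} [CommRing C] [CommRing D] (f g : FrobAlg.W2 p k →+* C) (π : C →+* D)
    (hfg : π.comp f = π.comp g) (hsq : ∀ u v : C, π u = 0 → π v = 0 → u * v = 0)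
    (hpu : ∀ u : C, π u = 0 → (p : C) * u = 0) : f = g := by
  have hp := (Fact.out : p.Prime)
  have hd : ∀ r, π (f r - g r) = 0 := fun r => by
    rw [map_sub, sub_eq_zero]; exact RingHom.congr_fun hfg r
  have hpow : ∀ r, f r ^ p = g r ^ p := by
    intro r
    obtain ⟨q, hq⟩ := exists_add_pow_prime_eq hp (g r) (f r - g r)
    rw [add_sub_cancel] at hq
    rw [hq, pow_eq_zero_of_le hp.two_le ((pow_two (f r - g r)).trans (hsq _ _ (hd r) (hd r))),
      show (p : C) * g r * (f r - g r) * q = g r * q * ((p : C) * (f r - g r)) by ring, hpu _ (hd r)]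
    simp
  refine RingHom.ext fun a => ?_
  obtain ⟨c, hc⟩ := (PerfectRing.bijective_frobenius (R := k) (p := p)).surjective (FrobAlg.res p k a)
  obtain ⟨b, hb⟩ : (p : FrobAlg.W2 p k) ∣ a - TruncatedWittVector.mk p (fun i => if i = 0 then c else 0) ^ p := by
    rw [← Ideal.mem_span_singleton, ← ker_res, RingHom.mem_ker, map_sub, map_pow, res_eq (TruncatedWittVector.mk p _),
      TruncatedWittVector.coeff_mk, if_pos rfl, sub_eq_zero, ← hc]
  rw [sub_eq_iff_eq_add] at hb
  rw [hb, map_add, map_add, map_mul, map_mul, map_natCast, map_natCast, map_pow, map_pow, hpow]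
  congr 1
  rw [← sub_eq_zero, ← mul_sub]
  exact hpu _ (hd b)

variable {A B : Type v} [CommRing A] [Algebra k A] [CommRing B] {ι : FrobAlg.W2 p k →+* B} {π : B →+* A}

theorem natCast_eq_zero (h : FrobAlg.IsLift p k A B ι π) : (p : A) = 0 := by
  rw [← map_natCast (algebraMap k A), CharP.cast_eq_zero, map_zero]

theorem lift_natCast_sq (h : FrobAlg.IsLift p k A B ι π) : (p : B) ^ 2 = 0 := by
  rw [← map_natCast ι, ← map_pow, Groth.Agent.FrobW.W2.natCast_sq, map_zero]

theorem lift_ker (h : FrobAlg.IsLift p k A B ι π) : RingHom.ker π = Ideal.span {(p : B)} := by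
  rw [h.ker_eq, map_ker_res]

theorem lift_exists_eq_natCast_mul (h : FrobAlg.IsLift p k A B ι π) {b : B} (hb : π b = 0) :
    ∃ c, b = (p : B) * c := by
  rw [← RingHom.mem_ker, lift_ker h, Ideal.mem_span_singleton] at hb
  exact hb

theorem lift_natCast_mul_eq_zero (h : FrobAlg.IsLift p k A B ι π) {b : B} :
    (p : B) * b = 0 ↔ π b = 0 := by
  letI := ι.toAlgebra
  haveI : Module.Flat (FrobAlg.W2 p k) B := h.flat
  constructor
  · intro hb
    obtain ⟨c, hc⟩ := (Groth.Agent.FrobW.W2.flat_iff p k B).1 inferInstance b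
      (by rw [Algebra.smul_def, map_natCast, hb])
    rw [hc, Algebra.smul_def, map_natCast, map_mul, map_natCast, natCast_eq_zero h, zero_mul]
  · intro hb
    obtain ⟨c, rfl⟩ := lift_exists_eq_natCast_mul h hb
    rw [← mul_assoc, ← pow_two, lift_natCast_sq h, zero_mul]

theorem lift_mul_eq_zero (h : FrobAlg.IsLift p k A B ι π) {u v : B} (hu : π u = 0) (hv : π v = 0) :
    u * v = 0 := by
  obtain ⟨c, rfl⟩ := lift_exists_eq_natCast_mul h hu
  rw [mul_assoc, mul_left_comm, (lift_natCast_mul_eq_zero h).2 hv, mul_zero]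

/-- Constructing a lift from an algebra with `p`-torsion equal to the kernel of the projection. -/
theorem isLift_of_natCast (hsurj : Function.Surjective π) (hcomm : π.comp ι = (algebraMap k A).comp (FrobAlg.res p k))
    (hker : ∀ b, π b = 0 → ∃ c, b = (p : B) * c) (htors : ∀ b, (p : B) * b = 0 → π b = 0) :
    FrobAlg.IsLift p k A B ι π := by
  refine ⟨?_, hsurj, ?_, hcomm⟩
  · letI := ι.toAlgebra
    refine (Groth.Agent.FrobW.W2.flat_iff p k B).2 fun b hb => ?_
    rw [Algebra.smul_def, map_natCast] at hb
    obtain ⟨c, hc⟩ := hker b (htors b hb)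
    exact ⟨c, by rw [Algebra.smul_def, map_natCast]; exact hc⟩
  · rw [map_ker_res]
    refine le_antisymm (fun b hb => Ideal.mem_span_singleton.2 (hker b hb)) (Ideal.span_le.2 ?_)
    rintro _ rfl
    rw [SetLike.mem_coe, RingHom.mem_ker, map_natCast, ← map_natCast (algebraMap k A), CharP.cast_eq_zero, map_zero]

/-- The ghost component `W₂(R) → R`, `(a₀, a₁) ↦ a₀ ^ p + p a₁`. -/
noncomputable def ghostOne (R : Type*) [CommRing R] : TruncatedWittVector p 2 R →+* R :=
  RingHom.liftOfSurjective (WittVector.truncate 2) (WittVector.truncate_surjective p 2 R)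
    ⟨WittVector.ghostComponent 1, fun X hX => by
      rw [RingHom.mem_ker] at hX
      have h := (WittVector.mem_ker_truncate 2 X).1 (RingHom.mem_ker.2 hX)
      rw [RingHom.mem_ker, WittVector.ghostComponent_apply, wittPolynomial_eq_sum_C_mul_X_pow]
      simp [Finset.sum_range_succ, h 0 (by omega), h 1 (by omega), (Fact.out : p.Prime).ne_zero]⟩

theorem ghostOne_apply {R : Type*} [CommRing R] (x : TruncatedWittVector p 2 R) :
    ghostOne R x = x.coeff 0 ^ p + (p : R) * x.coeff 1 := by
  obtain ⟨X, rfl⟩ := WittVector.truncate_surjective p 2 R x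
  rw [WittVector.coeff_truncate, WittVector.coeff_truncate]
  refine (RingHom.liftOfRightInverse_comp_apply _ _ _ _ X).trans ?_
  rw [WittVector.ghostComponent_apply, wittPolynomial_eq_sum_C_mul_X_pow]
  simp [Finset.sum_range_succ]

end

end Groth.Agent.FrobW.Witt
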